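import Mathlib

/-!
Points of smooth algebras in quotients of the base extend to étale algebras.
-/

set_option autoImplicit false
set_option linter.style.haveILetI false

universe u

open TensorProduct

namespace Groth.Agent.ApxAffine

theorem exists_etale_section {P Q D : Type u} [CommRing P] [CommRing Q] [CommRing D] [Algebra P Q] [Algebra P D]
    [Algebra.FinitePresentation P D] (hQ : Function.Surjective (algebraMap P Q)) (σ : D →ₐ[P] Q) (q : Ideal D)
    [q.IsPrime] [Algebra.IsSmoothAt P q] (hq : ∀ g, g ∉ q → IsUnit (σ g)) :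
    ∃ (E : Type u) (_ : CommRing E) (_ : Algebra P E) (_ : Algebra.Etale P E) (u : D →ₐ[P] E) (ψ : E →ₐ[P] Q),
      ψ.comp u = σ := by
  classical
  obtain ⟨g, hgq, hstd⟩ := Algebra.IsSmoothAt.exists_notMem_isStandardSmooth P q
  let Dg := Localization.Away g
  let σg : Dg →ₐ[P] Q := IsLocalization.liftAlgHom (M := Submonoid.powers g) (f := σ) fun y => by
    obtain ⟨i, hi⟩ := y.2
    rw [← hi, map_pow]
    exact (hq g hgq).pow i
  have hstd' : (algebraMap P Dg).IsStandardSmooth := RingHom.isStandardSmooth_algebraMap.2 hstd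
  obtain ⟨n, w, hw, hwet⟩ := hstd'.exists_etale_mvPolynomial
  choose p hp using fun i => hQ (σg (w (MvPolynomial.X i)))
  letI : Algebra (MvPolynomial (Fin n) P) Dg := w.toAlgebra
  haveI : Algebra.Etale (MvPolynomial (Fin n) P) Dg := RingHom.etale_algebraMap.1 hwet
  let ev : MvPolynomial (Fin n) P →ₐ[P] P := MvPolynomial.aeval p
  letI : Algebra (MvPolynomial (Fin n) P) P := ev.toRingHom.toAlgebra
  letI : Algebra (MvPolynomial (Fin n) P) Q := ((algebraMap P Q).comp ev.toRingHom).toAlgebra
  haveI : IsScalarTower (MvPolynomial (Fin n) P) P Q := IsScalarTower.of_algebraMap_eq' rfl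
  let E := P ⊗[MvPolynomial (Fin n) P] Dg
  have hcomp : σg.toRingHom.comp w = (algebraMap P Q).comp ev.toRingHom := by
    refine MvPolynomial.ringHom_ext (fun r => ?_) fun i => ?_
    · have h1 : w (MvPolynomial.C r) = algebraMap P Dg r := RingHom.congr_fun hw r
      simp only [RingHom.comp_apply, h1, AlgHom.toRingHom_eq_coe, RingHom.coe_coe, AlgHom.commutes, ev,
        MvPolynomial.aeval_C, Algebra.algebraMap_self, RingHom.id_apply]
    · simp [ev, hp]
  let σW : Dg →ₐ[MvPolynomial (Fin n) P] Q :=
    { σg.toRingHom with commutes' := fun x => RingHom.congr_fun hcomp x }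
  let ψ : E →ₐ[P] Q := Algebra.TensorProduct.lift (Algebra.ofId P Q) σW fun _ _ => Commute.all _ _
  haveI : Algebra.Etale P E := inferInstance
  have hlin : ∀ r : P, (Algebra.TensorProduct.includeRight : Dg →ₐ[MvPolynomial (Fin n) P] E) (algebraMap P Dg r) =
      algebraMap P E r := by
    intro r
    have h1 : algebraMap P Dg r = algebraMap (MvPolynomial (Fin n) P) Dg (MvPolynomial.C r) :=
      (RingHom.congr_fun hw r).symm
    rw [h1, AlgHom.commutes, Algebra.TensorProduct.algebraMap_apply, Algebra.TensorProduct.algebraMap_apply]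
    congr 1
    show ev (MvPolynomial.C r) = _
    simp [ev]
  let u₁ : Dg →ₐ[P] E :=
    { (Algebra.TensorProduct.includeRight : Dg →ₐ[MvPolynomial (Fin n) P] E).toRingHom with commutes' := hlin }
  refine ⟨E, inferInstance, inferInstance, inferInstance, u₁.comp (IsScalarTower.toAlgHom P D Dg), ψ, ?_⟩
  ext x
  show ψ (1 ⊗ₜ algebraMap D Dg x) = σ x
  rw [Algebra.TensorProduct.lift_tmul, map_one, one_mul]
  exact IsLocalization.lift_eq _ x

end Groth.Agent.ApxAffine
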