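import Groth.Agent.AlgzApx.Point
import Groth.Agent.SmDiff.Cot
import Mathlib

/-!
A smooth algebra with a power series point through the coordinates is smooth over the polynomial ring there.
-/

set_option autoImplicit false
set_option backward.isDefEq.respectTransparency false
set_option linter.style.haveILetI false
set_option maxHeartbeats 1000000

universe u

open IsLocalRing

namespace Groth.Agent.ApxAffine

variable {k : Type u} [Field k] {d : ℕ}

local notation "𝔪" => maximalIdeal (MvPowerSeries (Fin d) k)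

theorem exists_linear (p : MvPolynomial (Fin d) k) : ∃ (c : k) (ci : Fin d → k),
    p - (MvPolynomial.C c + ∑ i, MvPolynomial.C (ci i) * MvPolynomial.X i) ∈
      (Ideal.span (Set.range (MvPolynomial.X : Fin d → MvPolynomial (Fin d) k))) ^ 2 := by
  classical
  induction p using MvPolynomial.induction_on with
  | C c => exact ⟨c, 0, by simp⟩
  | add p q hp hq =>
    obtain ⟨c, ci, h⟩ := hp
    obtain ⟨c', ci', h'⟩ := hq
    refine ⟨c + c', ci + ci', ?_⟩
    have := Ideal.add_mem _ h h'
    convert this using 1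
    simp only [map_add, Pi.add_apply, add_mul, Finset.sum_add_distrib]
    ring
  | mul_X p i hp =>
    obtain ⟨c, ci, h⟩ := hp
    refine ⟨0, fun j => if j = i then c else 0, ?_⟩
    have hX : ∀ j, (MvPolynomial.X j : MvPolynomial (Fin d) k) ∈
        Ideal.span (Set.range (MvPolynomial.X : Fin d → MvPolynomial (Fin d) k)) :=
      fun j => Ideal.subset_span ⟨j, rfl⟩
    rw [show p * MvPolynomial.X i - (MvPolynomial.C 0 + ∑ j, MvPolynomial.C (if j = i then c else 0) * MvPolynomial.X j) =
        (p - (MvPolynomial.C c + ∑ j, MvPolynomial.C (ci j) * MvPolynomial.X j)) * MvPolynomial.X i +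
        ∑ j, MvPolynomial.C (ci j) * (MvPolynomial.X j * MvPolynomial.X i) by
      rw [Finset.sum_eq_single i (fun j _ hj => by simp [hj]) (by simp)]
      simp only [if_pos, map_zero, zero_add, sub_mul, add_mul, Finset.sum_mul, mul_assoc]
      ring]
    refine Ideal.add_mem _ (Ideal.mul_mem_right _ _ h) (Ideal.sum_mem _ fun j _ => Ideal.mul_mem_left _ _ ?_)
    rw [pow_two]
    exact Ideal.mul_mem_mul (hX j) (hX i)

theorem mem_sq_of_coe_mem_sq {p : MvPolynomial (Fin d) k} (hp : (p : MvPowerSeries (Fin d) k) ∈ 𝔪 ^ 2) :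
    p ∈ (Ideal.span (Set.range (MvPolynomial.X : Fin d → MvPolynomial (Fin d) k))) ^ 2 := by
  classical
  obtain ⟨c, ci, h⟩ := exists_linear p
  let φ : MvPolynomial (Fin d) k →+* MvPowerSeries (Fin d) k := MvPolynomial.coeToMvPowerSeries.ringHom
  have hle : (Ideal.span (Set.range (MvPolynomial.X : Fin d → MvPolynomial (Fin d) k))).map φ ≤ 𝔪 := by
    rw [Ideal.map_span, Ideal.span_le]
    rintro _ ⟨_, ⟨i, rfl⟩, rfl⟩
    show φ (MvPolynomial.X i) ∈ 𝔪
    simpa [φ] using AlgzApx.X_mem (k := k) i
  have h1 : φ (p - (MvPolynomial.C c + ∑ i, MvPolynomial.C (ci i) * MvPolynomial.X i)) ∈ 𝔪 ^ 2 :=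
    Ideal.pow_right_mono hle 2 ((Ideal.map_pow φ _ 2).le (Ideal.mem_map_of_mem φ h))
  have h2 : φ (MvPolynomial.C c + ∑ i, MvPolynomial.C (ci i) * MvPolynomial.X i) ∈ 𝔪 ^ 2 := by
    rw [map_sub] at h1
    simpa using Ideal.sub_mem _ (show φ p ∈ 𝔪 ^ 2 from hp) h1
  simp only [map_add, map_sum, map_mul, φ, MvPolynomial.coeToMvPowerSeries.ringHom_apply, MvPolynomial.coe_C,
    MvPolynomial.coe_X] at h2
  have hc : c = 0 := by
    have := (AlgzApx.mem_max_iff _).1 (Ideal.pow_le_self two_ne_zero h2)
    simpa [map_sum] using this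
  have hci : ∀ i, ci i = 0 := fun i => by
    have := AlgzApx.coeff_single_of_mem_sq i h2
    simpa [map_sum, hc, MvPowerSeries.coeff_X, Finsupp.single_left_inj, Finset.sum_ite_eq, eq_comm] using this
  simpa [hc, hci] using h

theorem isSmoothAt_comap {D : Type u} [CommRing D] [Algebra k D] [Algebra.Smooth k D]
    [Algebra (MvPolynomial (Fin d) k) D] [IsScalarTower k (MvPolynomial (Fin d) k) D]
    (h : D →ₐ[k] MvPowerSeries (Fin d) k)
    (hX : ∀ p : MvPolynomial (Fin d) k, h (algebraMap _ D p) = (p : MvPowerSeries (Fin d) k)) :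
    Algebra.IsSmoothAt (MvPolynomial (Fin d) k) (Ideal.comap h 𝔪) := by
  classical
  let P := MvPolynomial (Fin d) k
  let q := Ideal.comap h 𝔪
  let n : Ideal P := Ideal.comap (algebraMap P D) q
  haveI : Algebra.EssFiniteType k D := inferInstance
  let L := Localization.AtPrime n
  let M := Localization.AtPrime q
  letI : Algebra L M := (Localization.localRingHom n q (algebraMap P D) rfl).toAlgebra
  haveI : IsScalarTower P L M := IsScalarTower.of_algebraMap_eq fun x => by
    rw [RingHom.algebraMap_toAlgebra, Localization.localRingHom_to_map, ← IsScalarTower.algebraMap_apply]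
  haveI : IsScalarTower k L M := IsScalarTower.of_algebraMap_eq fun x => by
    rw [IsScalarTower.algebraMap_apply k P L, ← IsScalarTower.algebraMap_apply P L M,
      IsScalarTower.algebraMap_apply P D M, ← IsScalarTower.algebraMap_apply k P D,
      ← IsScalarTower.algebraMap_apply k D M]
  haveI : Algebra.FormallySmooth k L := by
    haveI : Algebra.FormallySmooth P L := Algebra.FormallySmooth.of_isLocalization n.primeCompl
    exact Algebra.FormallySmooth.comp k P L
  haveI : Algebra.FormallySmooth k M := by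
    haveI : Algebra.FormallySmooth D M := Algebra.FormallySmooth.of_isLocalization q.primeCompl
    exact Algebra.FormallySmooth.comp k D M
  haveI : Algebra.EssFiniteType k L :=
    haveI := Algebra.EssFiniteType.of_isLocalization L n.primeCompl
    Algebra.EssFiniteType.comp k P L
  haveI : Algebra.EssFiniteType k M :=
    haveI := Algebra.EssFiniteType.of_isLocalization M q.primeCompl
    Algebra.EssFiniteType.comp k D M
  let hM : M →ₐ[k] MvPowerSeries (Fin d) k := IsLocalization.liftAlgHom (M := q.primeCompl) (f := h)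
    fun y => IsLocalRing.notMem_maximalIdeal.1 y.2
  have hMh : ∀ x, hM (algebraMap D M x) = h x := fun x => IsLocalization.lift_eq _ x
  have hloc : ∀ x : M, x ∈ maximalIdeal M ↔ hM x ∈ 𝔪 := by
    intro x
    obtain ⟨⟨a, s⟩, rfl⟩ := IsLocalization.mk'_surjective q.primeCompl x
    rw [IsLocalization.AtPrime.mk'_mem_maximal_iff M q a s]
    have h1 : hM (IsLocalization.mk' M a s) * h (s : D) = h a := by
      rw [← hMh, ← hMh, ← map_mul, IsLocalization.mk'_spec]
    rw [← Ideal.mul_unit_mem_iff_mem 𝔪 (IsLocalRing.notMem_maximalIdeal.1 s.2 : IsUnit (h (s : D))), h1]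
    exact Iff.rfl
  have hres : Function.Surjective (algebraMap k (ResidueField M)) := by
    intro y
    obtain ⟨x, rfl⟩ := IsLocalRing.residue_surjective y
    refine ⟨MvPowerSeries.constantCoeff (hM x), ?_⟩
    rw [IsScalarTower.algebraMap_apply k M (ResidueField M), ResidueField.algebraMap_eq, ← sub_eq_zero, ← map_sub,
      residue_eq_zero_iff, hloc, map_sub, AlgHom.commutes, AlgzApx.mem_max_iff]
    simp [MvPowerSeries.algebraMap_apply]
  have hsq : ∀ a ∈ maximalIdeal L, algebraMap L M a ∈ maximalIdeal M ^ 2 → a ∈ maximalIdeal L ^ 2 := by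
    intro a _ ha2
    obtain ⟨⟨p, s⟩, hps⟩ := IsLocalization.surj n.primeCompl a
    have hp : algebraMap L M (algebraMap P L p) ∈ maximalIdeal M ^ 2 := by
      rw [← hps, map_mul]; exact Ideal.mul_mem_right _ _ ha2
    rw [← IsScalarTower.algebraMap_apply P L M, IsScalarTower.algebraMap_apply P D M] at hp
    have hle : (maximalIdeal M).map hM ≤ 𝔪 := Ideal.map_le_iff_le_comap.2 fun x hx => (hloc x).1 hx
    have hp2 : hM (algebraMap D M (algebraMap P D p)) ∈ 𝔪 ^ 2 :=
      Ideal.pow_right_mono hle 2 ((Ideal.map_pow hM _ 2).le (Ideal.mem_map_of_mem hM hp))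
    rw [hMh, hX] at hp2
    have hn : Ideal.span (Set.range (MvPolynomial.X : Fin d → P)) ≤ n := by
      rw [Ideal.span_le]
      rintro _ ⟨i, rfl⟩
      show h (algebraMap P D (MvPolynomial.X i)) ∈ 𝔪
      rw [hX, MvPolynomial.coe_X]
      exact AlgzApx.X_mem i
    have h3 := Ideal.mem_map_of_mem (algebraMap P L) (Ideal.pow_right_mono hn 2 (mem_sq_of_coe_mem_sq hp2))
    rw [Ideal.map_pow, Localization.AtPrime.map_eq_maximalIdeal, ← hps] at h3
    exact (Ideal.mul_unit_mem_iff_mem _ (IsLocalization.map_units L s)).1 h3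
  haveI := SmDiff.formallySmooth_of_mem_sq k L M hres hsq
  haveI : Algebra.FormallySmooth P L := Algebra.FormallySmooth.of_isLocalization n.primeCompl
  exact Algebra.FormallySmooth.comp P L M

end Groth.Agent.ApxAffine
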