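import Groth.Agent.AlgzApx.Point
import Groth.Agent.ArtObs.Models
import Groth.Agent.ApxAffine.SmoothPoint
import Groth.Agent.ApxAffine.EtaleSection
import Mathlib

/-!
Artin approximation at a rational point of an affine scheme of finite type over an algebraically closed field.
-/

set_option autoImplicit false
set_option backward.isDefEq.respectTransparency false
set_option linter.style.haveILetI false
set_option maxHeartbeats 1000000

universe u

open CategoryTheory IsLocalRing

namespace Groth.Agent.ApxAffine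

theorem coe_algHom {k : Type u} [Field k] {d : ℕ} (p : MvPolynomial (Fin d) k) :
    MvPolynomial.coeToMvPowerSeries.algHom k p = (p : MvPowerSeries (Fin d) k) := by
  rw [MvPolynomial.coeToMvPowerSeries.algHom_apply, Algebra.algebraMap_self, MvPowerSeries.map_id, RingHom.id_apply]

theorem exists_fg_of_preserves {A : Type u} [CommRing A] (F : CommAlgCat.{u} A ⥤ Type u)
    (hF : ∀ (J : Type u) [SmallCategory J] [IsFiltered J], Limits.PreservesColimitsOfShape J F)
    (R : Type u) [CommRing R] [Algebra A R] (ξ : F.obj (CommAlgCat.of A R)) :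
    ∃ S : Subalgebra A R, S.FG ∧ ∃ ξ' : F.obj (CommAlgCat.of A S), F.map (CommAlgCat.ofHom S.val) ξ' = ξ := by
  let J := {S : Subalgebra A R // S.FG}
  have : IsDirectedOrder J := ⟨fun a b => ⟨⟨a.1 ⊔ b.1, a.2.sup b.2⟩, (le_sup_left : a.1 ≤ a.1 ⊔ b.1), (le_sup_right : b.1 ≤ a.1 ⊔ b.1)⟩⟩
  have : Nonempty J := ⟨⟨⊥, Subalgebra.fg_bot⟩⟩
  have := hF J
  let D : J ⥤ CommAlgCat.{u} A :=
    { obj := fun S => CommAlgCat.of A S.1
      map := fun φ => CommAlgCat.ofHom (Subalgebra.inclusion (leOfHom φ))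
      map_id := fun _ => CommAlgCat.hom_ext (AlgHom.ext fun _ => rfl)
      map_comp := fun _ _ => CommAlgCat.hom_ext (AlgHom.ext fun _ => rfl) }
  let c : Limits.Cocone D :=
    { pt := CommAlgCat.of A R
      ι := { app := fun S => CommAlgCat.ofHom S.1.val
             naturality := fun _ _ _ => CommAlgCat.hom_ext (AlgHom.ext fun _ => rfl) } }
  have hmem : ∀ x : R, (Algebra.adjoin A {x}).FG := fun x => ⟨{x}, by simp⟩
  let pick : R → J := fun x => ⟨Algebra.adjoin A {x}, hmem x⟩
  have hw : ∀ (s : Limits.Cocone D) (a b : J) (h : a.1 ≤ b.1) (y : a.1),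
      (s.ι.app b).hom (Subalgebra.inclusion h y) = (s.ι.app a).hom y := fun s a b h y => by
    have := congrArg (fun q => q.hom y) (s.w (homOfLE (show a ≤ b from h)))
    exact this
  let val : ∀ (s : Limits.Cocone D), R → s.pt := fun s x =>
    (s.ι.app (pick x)).hom ⟨x, Algebra.subset_adjoin rfl⟩
  have hval : ∀ (s : Limits.Cocone D) (a : J) (x : R) (hx : x ∈ a.1), (s.ι.app a).hom ⟨x, hx⟩ = val s x :=
    fun s a x hx => by
      have h := hw s (pick x) a (Algebra.adjoin_le (Set.singleton_subset_iff.2 hx)) ⟨x, Algebra.subset_adjoin rfl⟩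
      exact h
  let desc : ∀ s : Limits.Cocone D, R →ₐ[A] s.pt := fun s =>
    { toFun := val s
      map_one' := (hval s (pick 1) 1 (one_mem _)).symm.trans (map_one _)
      map_zero' := (hval s (pick 0) 0 (zero_mem _)).symm.trans (map_zero _)
      map_mul' := fun x y => by
        let a : J := ⟨Algebra.adjoin A {x} ⊔ Algebra.adjoin A {y}, (hmem x).sup (hmem y)⟩
        have hx : x ∈ a.1 := le_sup_left (b := Algebra.adjoin A {y}) (Algebra.subset_adjoin rfl)
        have hy : y ∈ a.1 := le_sup_right (a := Algebra.adjoin A {x}) (Algebra.subset_adjoin rfl)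
        rw [← hval s a _ (mul_mem hx hy), ← hval s a x hx, ← hval s a y hy]
        exact map_mul (s.ι.app a).hom ⟨x, hx⟩ ⟨y, hy⟩
      map_add' := fun x y => by
        let a : J := ⟨Algebra.adjoin A {x} ⊔ Algebra.adjoin A {y}, (hmem x).sup (hmem y)⟩
        have hx : x ∈ a.1 := le_sup_left (b := Algebra.adjoin A {y}) (Algebra.subset_adjoin rfl)
        have hy : y ∈ a.1 := le_sup_right (a := Algebra.adjoin A {x}) (Algebra.subset_adjoin rfl)
        rw [← hval s a _ (add_mem hx hy), ← hval s a x hx, ← hval s a y hy]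
        exact map_add (s.ι.app a).hom ⟨x, hx⟩ ⟨y, hy⟩
      commutes' := fun r => (hval s (pick (algebraMap A R r)) _ (Subalgebra.algebraMap_mem _ r)).symm.trans
        ((s.ι.app _).hom.commutes r) }
  have hc : Limits.IsColimit c :=
    { desc := fun s => CommAlgCat.ofHom (desc s)
      fac := fun s a => CommAlgCat.hom_ext (AlgHom.ext fun y => (hval s a y.1 y.2).symm)
      uniq := fun s g hg => CommAlgCat.hom_ext (AlgHom.ext fun x => by
        have := congrArg (fun q => q.hom ⟨x, Algebra.subset_adjoin rfl⟩) (hg (pick x))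
        exact this) }
  obtain ⟨S, ξ', hξ⟩ := Limits.Types.jointly_surjective _ (Limits.isColimitOfPreserves F hc) ξ
  exact ⟨S.1, S.2, ξ', hξ⟩

theorem exists_coords (k A : Type u) [Field k] [IsAlgClosed k] [CommRing A] [Algebra k A] [Algebra.FiniteType k A]
    (m : Ideal A) [m.IsMaximal] :
    ∃ (d : ℕ) (π : MvPolynomial (Fin d) k →ₐ[k] A), Function.Surjective π ∧ (∀ i, π (MvPolynomial.X i) ∈ m) ∧
      ∀ (n : ℕ) (a : A), a ∈ m ^ n →
        ∃ p ∈ Ideal.span (Set.range (MvPolynomial.X : Fin d → MvPolynomial (Fin d) k)) ^ n, π p = a := by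
  classical
  letI := Ideal.Quotient.field m
  haveI : Module.Finite k (A ⧸ m) := finite_of_finite_type_of_isJacobsonRing k (A ⧸ m)
  have hbij : Function.Bijective (algebraMap k (A ⧸ m)) :=
    IsAlgClosed.algebraMap_bijective_of_isIntegral (K := A ⧸ m) (k := k)
  obtain ⟨d, f, hf⟩ := Algebra.FiniteType.iff_quotient_mvPolynomial''.1 ‹Algebra.FiniteType k A›
  choose c hc using fun i => hbij.2 (Ideal.Quotient.mk m (f (MvPolynomial.X i)))
  let π : MvPolynomial (Fin d) k →ₐ[k] A := MvPolynomial.aeval fun i => f (MvPolynomial.X i) - algebraMap k A (c i)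
  have hπm : ∀ i, π (MvPolynomial.X i) ∈ m := fun i => by
    rw [show π (MvPolynomial.X i) = f (MvPolynomial.X i) - algebraMap k A (c i) from MvPolynomial.aeval_X _ _,
      ← Ideal.Quotient.eq, ← hc]
    rfl
  have hπ : Function.Surjective π := fun a => by
    obtain ⟨p, rfl⟩ := hf a
    let sh : MvPolynomial (Fin d) k →ₐ[k] MvPolynomial (Fin d) k :=
      MvPolynomial.aeval fun i => MvPolynomial.X i + MvPolynomial.C (c i)
    exact ⟨sh p, AlgHom.congr_fun (show π.comp sh = f from MvPolynomial.algHom_ext fun i => by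
      simp [sh, π, MvPolynomial.algebraMap_eq]) p⟩
  refine ⟨d, π, hπ, hπm, fun n a ha => ?_⟩
  set 𝔫 := Ideal.span (Set.range (MvPolynomial.X : Fin d → MvPolynomial (Fin d) k))
  have hmap : m ≤ 𝔫.map π := by
    intro x hx
    obtain ⟨p, rfl⟩ := hπ x
    let c₀ := MvPolynomial.constantCoeff p
    have hp : ∀ q : MvPolynomial (Fin d) k, q - MvPolynomial.C (MvPolynomial.constantCoeff q) ∈ 𝔫 := fun q => by
      induction q using MvPolynomial.induction_on with
      | C r => simp
      | add p q hp hq =>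
        rw [map_add, map_add, add_sub_add_comm]
        exact Ideal.add_mem _ hp hq
      | mul_X p i _ =>
        simp only [map_mul, MvPolynomial.constantCoeff_X, mul_zero, map_zero, sub_zero]
        exact Ideal.mul_mem_left _ _ (Ideal.subset_span ⟨i, rfl⟩)
    have h1 : π (p - MvPolynomial.C c₀) ∈ 𝔫.map π := Ideal.mem_map_of_mem π (hp p)
    have h2 : 𝔫.map π ≤ m := by
      rw [Ideal.map_span, Ideal.span_le]
      rintro _ ⟨_, ⟨i, rfl⟩, rfl⟩
      exact hπm i
    have h3 : algebraMap k A c₀ ∈ m := by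
      have := Ideal.sub_mem _ hx (h2 h1)
      rwa [map_sub, sub_sub_cancel, ← MvPolynomial.algebraMap_eq, AlgHom.commutes] at this
    have h4 : c₀ = 0 := hbij.1 (by
      rw [map_zero, IsScalarTower.algebraMap_apply k A (A ⧸ m), Ideal.Quotient.algebraMap_eq,
        Ideal.Quotient.eq_zero_iff_mem]
      exact h3)
    rwa [h4, map_zero, sub_zero] at h1
  have h5 : a ∈ (𝔫 ^ n).map π := by rw [Ideal.map_pow]; exact Ideal.pow_right_mono hmap n ha
  exact (Ideal.mem_map_iff_of_surjective π hπ).1 h5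

set_option maxHeartbeats 4000000 in
theorem artin_approx (k : Type u) [Field k] [IsAlgClosed k]
    (A : Type u) [CommRing A] [Algebra k A] [Algebra.FiniteType k A] (m : Ideal A) [m.IsMaximal]
    (S : Subalgebra A (AdicCompletion m A)) (hS : S.FG) (N : ℕ) :
    ∃ (A' : Type u) (_ : CommRing A') (_ : Algebra A A') (_ : Algebra.Etale A A')
      (ψ : A' →ₐ[A] (A ⧸ m ^ (N + 1))) (_ : Function.Surjective ψ) (χ : S →ₐ[A] A'),
      ψ.comp χ = (AdicCompletion.evalₐ m (N + 1)).comp S.val := by
  classical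
  obtain ⟨d, π, hπ, hπm, hπpow⟩ := exists_coords k A m
  let P := MvPolynomial (Fin d) k
  let PS := MvPowerSeries (Fin d) k
  let 𝔫 : Ideal P := Ideal.span (Set.range MvPolynomial.X)
  let 𝔪 : Ideal PS := maximalIdeal PS
  letI : Algebra P A := π.toRingHom.toAlgebra
  haveI : IsScalarTower k P A := IsScalarTower.of_algebraMap_eq fun x => (π.commutes x).symm
  -- truncations
  have hnil : ∀ (n : ℕ) (i : Fin d), IsNilpotent (Ideal.Quotient.mk (m ^ n) (π (MvPolynomial.X i))) := fun n i =>
    ⟨n, by rw [← map_pow, Ideal.Quotient.eq_zero_iff_mem]; exact Ideal.pow_mem_pow (hπm i) n⟩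
  let τ : (n : ℕ) → PS →ₐ[k] A ⧸ m ^ n := fun n => ArtPow.evalNil _ (hnil n)
  have hτP : ∀ n (p : P), τ n (p : PS) = Ideal.Quotient.mk (m ^ n) (π p) := fun n p => by
    have h : (τ n).comp (MvPolynomial.coeToMvPowerSeries.algHom k) = (Ideal.Quotient.mkₐ k (m ^ n)).comp π :=
      MvPolynomial.algHom_ext fun i => by
        rw [AlgHom.comp_apply, coe_algHom, MvPolynomial.coe_X]
        exact ArtPow.evalNil_X _ (hnil n) i
    have := AlgHom.congr_fun h p
    rw [AlgHom.comp_apply, coe_algHom] at this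
    exact this
  have hτ0 : ∀ n, ∀ z ∈ 𝔪 ^ n, τ n z = 0 := fun n z hz => by
    have h1 : 𝔪.map (τ n) ≤ m.map (Ideal.Quotient.mk (m ^ n)) := by
      show (maximalIdeal PS).map (τ n) ≤ _
      rw [← ArtPow.span_X_eq_maximalIdeal, Ideal.map_span, Ideal.span_le]
      rintro _ ⟨_, ⟨i, rfl⟩, rfl⟩
      rw [← MvPolynomial.coe_X, SetLike.mem_coe, hτP]
      exact Ideal.mem_map_of_mem _ (hπm i)
    have h2 : τ n z ∈ (m.map (Ideal.Quotient.mk (m ^ n))) ^ n :=
      Ideal.pow_right_mono h1 n ((Ideal.map_pow (τ n) 𝔪 n).le (Ideal.mem_map_of_mem (τ n) hz))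
    rwa [← Ideal.map_pow, Ideal.map_quotient_self, Ideal.mem_bot] at h2
  have hcoe : ∀ n, ∀ p ∈ 𝔫 ^ n, (p : PS) ∈ 𝔪 ^ n := fun n p hp => by
    have h1 : 𝔫.map (MvPolynomial.coeToMvPowerSeries.ringHom : P →+* PS) ≤ 𝔪 := by
      rw [Ideal.map_span, Ideal.span_le]
      rintro _ ⟨_, ⟨i, rfl⟩, rfl⟩
      rw [SetLike.mem_coe, MvPolynomial.coeToMvPowerSeries.ringHom_apply, MvPolynomial.coe_X]
      exact AlgzApx.X_mem (k := k) i
    have := Ideal.pow_right_mono h1 n ((Ideal.map_pow _ 𝔫 n).le (Ideal.mem_map_of_mem _ hp))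
    rw [MvPolynomial.coeToMvPowerSeries.ringHom_apply] at this
    exact this
  -- kernel
  let I : Ideal P := RingHom.ker π
  obtain ⟨r, f, hf⟩ := Submodule.fg_iff_exists_fin_generating_family.1 (IsNoetherian.noetherian I)
  haveI := ArtObs.isAdicComplete_ps k d
  have hker : ∀ z : PS, (∀ n, τ n z = 0) → ∃ zc : Fin r → PS, z = ∑ l, zc l * (f l : PS) := fun z hz => by
    have hmem : z ∈ I.map (MvPolynomial.coeToMvPowerSeries.ringHom : P →+* PS) := by
      set IP := I.map (MvPolynomial.coeToMvPowerSeries.ringHom : P →+* PS)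
      have hall : ∀ n, z ∈ IP ⊔ 𝔪 ^ n := fun n => by
        obtain ⟨p, hp⟩ := AlgzApx.exists_poly_near n z
        rw [show MvPolynomial.aeval (fun i => (MvPowerSeries.X i : PS)) p = (p : PS) from
          AlgHom.congr_fun (show MvPolynomial.aeval (fun i => (MvPowerSeries.X i : PS)) =
            MvPolynomial.coeToMvPowerSeries.algHom k from MvPolynomial.algHom_ext fun i => by
              simp [coe_algHom]) p |>.trans (coe_algHom p)] at hp
        have h1 := hτ0 n _ hp
        rw [map_sub, hz n, hτP, zero_sub, neg_eq_zero, Ideal.Quotient.eq_zero_iff_mem] at h1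
        obtain ⟨p', hp', hpp⟩ := hπpow n _ h1
        have hpI : p - p' ∈ I := by rw [RingHom.mem_ker, map_sub, hpp, sub_self]
        rw [show z = MvPolynomial.coeToMvPowerSeries.ringHom (p - p') + ((z - (p : PS)) + (p' : PS)) by
          rw [map_sub, MvPolynomial.coeToMvPowerSeries.ringHom_apply, MvPolynomial.coeToMvPowerSeries.ringHom_apply]; ring]
        exact Ideal.add_mem _ (Ideal.mem_sup_left (Ideal.mem_map_of_mem _ hpI))
          (Ideal.mem_sup_right (Ideal.add_mem _ hp (hcoe n p' hp')))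
      have hne : IP ≠ ⊤ → z ∈ IP := fun hne => by
        haveI : Nontrivial (PS ⧸ IP) := Ideal.Quotient.nontrivial_iff.2 hne
        haveI : IsLocalRing (PS ⧸ IP) := IsLocalRing.of_surjective' _ Ideal.Quotient.mk_surjective
        haveI : IsLocalHom (Ideal.Quotient.mk IP) := IsLocalHom.of_surjective _ Ideal.Quotient.mk_surjective
        rw [← Ideal.Quotient.eq_zero_iff_mem]
        have hbot := Ideal.iInf_pow_eq_bot_of_isLocalRing (maximalIdeal (PS ⧸ IP))
          (maximalIdeal.isMaximal _).ne_top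
        have hz' : Ideal.Quotient.mk IP z ∈ ⨅ n, maximalIdeal (PS ⧸ IP) ^ n := by
          rw [Submodule.mem_iInf]
          intro n
          obtain ⟨u, hu, v, hv, huv⟩ := Submodule.mem_sup.1 (hall n)
          rw [← huv, map_add, (Ideal.Quotient.eq_zero_iff_mem).2 hu, zero_add]
          refine Ideal.pow_right_mono ?_ n ((Ideal.map_pow _ 𝔪 n).le (Ideal.mem_map_of_mem _ hv))
          exact Ideal.map_le_iff_le_comap.2 fun x hx => fun hu' => hx (isUnit_of_map_unit _ _ hu')
        rwa [hbot] at hz'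
      by_cases hne' : IP = ⊤
      · rw [hne']; trivial
      · exact hne hne'
    rw [← hf] at hmem
    change z ∈ Ideal.map _ (Ideal.span (Set.range f)) at hmem
    rw [Ideal.map_span, ← Set.range_comp, Ideal.mem_span_range_iff_exists_fun] at hmem
    obtain ⟨zc, hzc⟩ := hmem
    exact ⟨zc, by rw [← hzc]; exact Finset.sum_congr rfl fun x _ => rfl⟩
  -- surjectivity
  have hsurj : ∀ w : AdicCompletion m A, ∃ z : PS, ∀ n, τ n z = AdicCompletion.evalₐ m n w := fun w => by
    obtain ⟨a, rfl⟩ := AdicCompletion.mk_surjective m A w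
    have hd : ∀ n, a.val (n + 1) - a.val n ∈ m ^ n := fun n => by
      have := (SModEq.sub_mem.1 ((a.property (Nat.le_succ n)).symm))
      simpa using this
    choose δ hδ hδπ using fun n => hπpow n _ (hd n)
    obtain ⟨p₀, hp₀⟩ := hπ (a.val 0)
    let p : ℕ → P := fun n => p₀ + ∑ i ∈ Finset.range n, δ i
    have hp : ∀ n, π (p n) = a.val n := fun n => by
      induction n with
      | zero => simp [p, hp₀]
      | succ n ih =>
        simp only [p, Finset.sum_range_succ, ← add_assoc, map_add, hδπ] at ih ⊢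
        rw [ih]; ring
    have hcauchy : ∀ {i j : ℕ}, i ≤ j → (p i : PS) ≡ (p j : PS) [SMOD (𝔪 ^ i • ⊤ : Submodule PS PS)] := by
      intro i j hij
      induction hij with
      | refl => exact SModEq.rfl
      | @step j hij ih =>
        refine ih.trans (SModEq.sub_mem.2 ?_)
        rw [smul_eq_mul, Ideal.mul_top,
          show (p j : PS) - (p (j + 1) : PS) = -(δ j : PS) by simp [p, Finset.sum_range_succ, MvPolynomial.coe_add]]
        exact Ideal.pow_le_pow_right hij (Submodule.neg_mem _ (hcoe j _ (hδ j)))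
    obtain ⟨z, hz⟩ := IsPrecomplete.prec' (I := 𝔪) (fun n => (p n : PS)) hcauchy
    refine ⟨z, fun n => ?_⟩
    have h1 := SModEq.sub_mem.1 (hz n)
    rw [smul_eq_mul, Ideal.mul_top] at h1
    have h2 := hτ0 n _ h1
    rw [map_sub, hτP, hp, sub_eq_zero] at h2
    rw [← h2, AdicCompletion.evalₐ_mk]
  -- presentation of `S`
  haveI : IsNoetherianRing A := Algebra.FiniteType.isNoetherianRing k A
  haveI hSft : Algebra.FiniteType A S := (Subalgebra.fg_iff_finiteType S).1 hS
  obtain ⟨l, ρ, hρ⟩ := Algebra.FiniteType.iff_quotient_mvPolynomial''.1 hSft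
  obtain ⟨w, qt, hqt⟩ := Submodule.fg_iff_exists_fin_generating_family.1
    (IsNoetherian.noetherian (RingHom.ker ρ.toRingHom : Ideal (MvPolynomial (Fin l) A)))
  choose c hc using fun i => hsurj (ρ (MvPolynomial.X i)).1
  choose gt hgt using fun t => MvPolynomial.map_surjective (algebraMap P A) hπ (qt t)
  -- `PS` and the truncations over `P`
  let Q := A ⧸ m ^ (N + 1)
  have hτker : ∀ t n, τ n (MvPolynomial.aeval c (gt t)) = 0 := fun t n => by
    let τP : PS →ₐ[P] A ⧸ m ^ n :=
      { (τ n).toRingHom with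
        commutes' := fun p => by
          show τ n (algebraMap P PS p) = algebraMap P (A ⧸ m ^ n) p
          rw [MvPowerSeries.algebraMap_apply', Algebra.algebraMap_self, MvPowerSeries.map_id, RingHom.id_apply, hτP]
          rfl }
    show τP (MvPolynomial.aeval c (gt t)) = 0
    rw [MvPolynomial.comp_aeval_apply, ← MvPolynomial.aeval_map_algebraMap A, hgt,
      show (fun i => τP (c i)) = fun i => ((AdicCompletion.evalₐ m n).comp S.val) (ρ (MvPolynomial.X i)) from
        funext fun i => hc i n,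
      ← MvPolynomial.comp_aeval_apply, show (fun i => ρ (MvPolynomial.X i)) = ρ ∘ MvPolynomial.X from rfl,
      ← MvPolynomial.aeval_unique ρ,
      show ρ (qt t) = 0 from RingHom.mem_ker.1 (hqt ▸ Submodule.subset_span ⟨t, rfl⟩), map_zero]
  choose zc hzc using fun t => hker _ (hτker t)
  -- the smooth algebra
  let gens : Set PS := Set.range (MvPowerSeries.X : Fin d → PS) ∪ Set.range c ∪
    Set.range (fun x : Fin w × Fin r => zc x.1 x.2)
  let C0 : Subalgebra k PS := Algebra.adjoin k gens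
  have hC0 : Algebra.FiniteType k C0 := (Subalgebra.fg_iff_finiteType C0).1
    ⟨Set.Finite.toFinset (s := gens) (((Set.finite_range _).union (Set.finite_range _)).union (Set.finite_range _)),
      by rw [Set.Finite.coe_toFinset]⟩
  have : Algebra.FinitePresentation k C0 := Algebra.FinitePresentation.of_finiteType.1 hC0
  haveI : IsRegularLocalRing PS := ArtObs.isRegularLocalRing_ps k d
  obtain ⟨D, _, _, hD, g₀, h, hgh⟩ := AlgzApx.exists_smooth_factor C0 C0.val
  have hghx : ∀ x : C0, h (g₀ x) = x := fun x => AlgHom.congr_fun hgh x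
  have hXm : ∀ i, (MvPowerSeries.X i : PS) ∈ C0 := fun i => Algebra.subset_adjoin (Or.inl (Or.inl ⟨i, rfl⟩))
  have hcm : ∀ i, c i ∈ C0 := fun i => Algebra.subset_adjoin (Or.inl (Or.inr ⟨i, rfl⟩))
  have hzm : ∀ t x, zc t x ∈ C0 := fun t x => Algebra.subset_adjoin (Or.inr ⟨(t, x), rfl⟩)
  let X₀ : P →ₐ[k] C0 := MvPolynomial.aeval fun i => (⟨_, hXm i⟩ : C0)
  have hX₀ : ∀ p : P, ((X₀ p : C0) : PS) = (p : PS) := fun p => by
    have h1 : C0.val.comp X₀ = MvPolynomial.coeToMvPowerSeries.algHom k := MvPolynomial.algHom_ext fun i => by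
      rw [AlgHom.comp_apply, coe_algHom, MvPolynomial.coe_X]
      simp [X₀]
    exact (AlgHom.congr_fun h1 p).trans (coe_algHom p)
  letI : Algebra P C0 := X₀.toRingHom.toAlgebra
  letI : Algebra P D := (g₀.comp X₀).toRingHom.toAlgebra
  haveI : IsScalarTower k P D := IsScalarTower.of_algebraMap_eq fun x => ((g₀.comp X₀).commutes x).symm
  let g₁ : C0 →ₐ[P] D := { g₀.toRingHom with commutes' := fun _ => rfl }
  let ι₀ : C0 →ₐ[P] PS :=
    { C0.val.toRingHom with
      commutes' := fun p => by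
        show ((X₀ p : C0) : PS) = _
        rw [hX₀, MvPowerSeries.algebraMap_apply', Algebra.algebraMap_self, MvPowerSeries.map_id, RingHom.id_apply] }
  have hrel : ∀ t, MvPolynomial.aeval (fun i => g₁ ⟨c i, hcm i⟩) (gt t) =
      ∑ x, g₁ ⟨zc t x, hzm t x⟩ * algebraMap P D (f x) := fun t => by
    have h1 : MvPolynomial.aeval (fun i => (⟨c i, hcm i⟩ : C0)) (gt t) =
        ∑ x, (⟨zc t x, hzm t x⟩ : C0) * algebraMap P C0 (f x) := by
      apply Subtype.val_injective
      show ι₀ (MvPolynomial.aeval _ (gt t)) = ι₀ (∑ x, _)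
      rw [MvPolynomial.comp_aeval_apply, map_sum]
      refine (hzc t).trans (Finset.sum_congr rfl fun x _ => ?_)
      rw [map_mul]
      congr 1
      exact (hX₀ (f x)).symm
    have h2 := congrArg g₁ h1
    rw [MvPolynomial.comp_aeval_apply, map_sum] at h2
    rw [h2]
    simp only [map_mul, AlgHom.commutes]
  -- smoothness at the point
  have hh : ∀ p : P, h (algebraMap P D p) = (p : PS) := fun p => (hghx (X₀ p)).trans (hX₀ p)
  haveI : Algebra.Smooth k D := hD
  haveI : Algebra.FinitePresentation P D :=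
    Algebra.FinitePresentation.of_restrict_scalars_finitePresentation k P D
  haveI := isSmoothAt_comap h hh
  let σ : D →ₐ[P] Q :=
    { ((τ (N + 1)).comp h).toRingHom with
      commutes' := fun p => by
        show τ (N + 1) (h (algebraMap P D p)) = algebraMap P (A ⧸ m ^ (N + 1)) p
        rw [hh, hτP]; rfl }
  haveI : (Ideal.comap h 𝔪).IsPrime := Ideal.IsPrime.comap h
  obtain ⟨E, _, _, hE, u, ψ, hψ⟩ := exists_etale_section (Q := Q) (fun y => by
      obtain ⟨a, rfl⟩ := Ideal.Quotient.mk_surjective y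
      obtain ⟨p, rfl⟩ := hπ a
      exact ⟨p, rfl⟩) σ (Ideal.comap h 𝔪) fun g hg => (IsLocalRing.notMem_maximalIdeal.1 hg).map (τ (N + 1))
  -- base change to `A`
  let A' := TensorProduct P A E
  let ψ' : A' →ₐ[A] Q := Algebra.TensorProduct.lift (Algebra.ofId A Q) ψ fun _ _ => Commute.all _ _
  have hψ' : Function.Surjective ψ' := fun y => by
    obtain ⟨a, rfl⟩ := Ideal.Quotient.mk_surjective y
    exact ⟨algebraMap A A' a, ψ'.commutes a⟩
  let incl : E →ₐ[P] A' := Algebra.TensorProduct.includeRight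
  let χ₀ : MvPolynomial (Fin l) A →ₐ[A] A' := MvPolynomial.aeval fun i => incl (u (g₁ ⟨c i, hcm i⟩))
  have hχ₀ : RingHom.ker ρ.toRingHom ≤ RingHom.ker χ₀.toRingHom := by
    rw [← hqt, Submodule.span_le]
    rintro _ ⟨t, rfl⟩
    show χ₀ (qt t) = 0
    rw [← hgt t]
    simp only [χ₀]
    rw [MvPolynomial.aeval_map_algebraMap, ← MvPolynomial.comp_aeval_apply, ← MvPolynomial.comp_aeval_apply,
      hrel t, map_sum, map_sum]
    refine Finset.sum_eq_zero fun x _ => ?_
    rw [map_mul, map_mul, AlgHom.commutes, AlgHom.commutes, IsScalarTower.algebraMap_apply P A A',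
      show algebraMap P A (f x) = 0 from RingHom.mem_ker.1 (hf ▸ Submodule.subset_span ⟨x, rfl⟩ : f x ∈ I),
      map_zero, mul_zero]
  let χ : S →ₐ[A] A' := AlgHom.liftOfSurjective ρ hρ χ₀ hχ₀
  refine ⟨A', inferInstance, inferInstance, inferInstance, ψ', hψ', χ, ?_⟩
  ext s
  obtain ⟨p, rfl⟩ := hρ s
  show (ψ'.comp χ) (ρ p) = _
  rw [AlgHom.comp_apply, AlgHom.liftOfSurjective_apply]
  refine AlgHom.congr_fun (show ψ'.comp χ₀ = ((AdicCompletion.evalₐ m (N + 1)).comp S.val).comp ρ from
    MvPolynomial.algHom_ext fun i => ?_) p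
  simp only [AlgHom.comp_apply, χ₀, MvPolynomial.aeval_X]
  show ψ' (1 ⊗ₜ[P] u (g₁ ⟨c i, hcm i⟩)) = _
  rw [Algebra.TensorProduct.lift_tmul, map_one, one_mul]
  refine (AlgHom.congr_fun hψ _).trans ?_
  show τ (N + 1) (h (g₀ _)) = _
  rw [hghx]
  exact hc i (N + 1)

theorem approximation_functor_affine (k : Type u) [Field k] [IsAlgClosed k]
    (A : Type u) [CommRing A] [Algebra k A] [Algebra.FiniteType k A] (m : Ideal A) [m.IsMaximal]
    (F : CommAlgCat.{u} A ⥤ Type u) [Limits.PreservesFilteredColimits F]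
    (ξ : F.obj (CommAlgCat.of A (AdicCompletion m A))) (N : ℕ) :
    ∃ (A' : Type u) (_ : CommRing A') (_ : Algebra A A') (_ : Algebra.Etale A A')
      (ψ : A' →ₐ[A] (A ⧸ m ^ (N + 1))) (_ : Function.Surjective ψ) (ξ' : F.obj (CommAlgCat.of A A')),
      F.map (CommAlgCat.ofHom ψ) ξ' =
        F.map (CommAlgCat.ofHom (AdicCompletion.evalₐ m (N + 1))) ξ := by
  obtain ⟨S, hS, ξ₀, hξ₀⟩ := exists_fg_of_preserves F
    (fun J _ _ => Limits.PreservesFilteredColimitsOfSize.preserves_filtered_colimits J) _ ξ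
  obtain ⟨A', _, _, hA', ψ, hψ, χ, hχ⟩ := artin_approx k A m S hS N
  refine ⟨A', inferInstance, inferInstance, hA', ψ, hψ, F.map (CommAlgCat.ofHom χ) ξ₀, ?_⟩
  rw [← hξ₀]
  erw [← Functor.map_comp_apply, ← Functor.map_comp_apply]
  rw [← CommAlgCat.ofHom_comp, ← CommAlgCat.ofHom_comp, hχ]

end Groth.Agent.ApxAffine
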